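import Groth.Agent.AlgSpLib.SmLift.Cor
import Groth.Agent.S2793

/-!
# Lifting along small extensions of Artinian local rings gives smoothness
-/

set_option backward.isDefEq.respectTransparency false
set_option backward.isDefEq.respectTransparency.types false

universe u

open CategoryTheory CategoryTheory.Limits AlgebraicGeometry Opposite AlgSp CommRingCat IsLocalRing

namespace Groth.Agent.AlgSpLib.SmLift

section Induction

variable {O B : Type u} [CommRing O] [CommRing B] [IsLocalRing B] (θ : O →+* B)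

/-- Lifting along principal small extensions gives lifting along all extensions killed by the maximal
ideal. -/
theorem exists_lift_of_principal
    (H : ∀ (A' : Type u) [CommRing A'] [IsLocalRing A'] [IsArtinianRing A'] (h : O →+* A')
      (t : A') (_ : t ∈ maximalIdeal A') (_ : ∀ a ∈ maximalIdeal A', a * t = 0)
      (_ : ∀ o, IsUnit (h o) → IsUnit (θ o))
      (g₀ : B →+* A' ⧸ Ideal.span {t}),
      g₀.comp θ = (Ideal.Quotient.mk _).comp h →
      (∀ b ∈ maximalIdeal B, g₀ b ∈ (maximalIdeal A').map (Ideal.Quotient.mk _)) →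
      (∀ a : A', ∃ b : B, g₀ b - Ideal.Quotient.mk _ a ∈
        (maximalIdeal A').map (Ideal.Quotient.mk _)) →
      ∃ g : B →+* A', g.comp θ = h ∧ (Ideal.Quotient.mk _).comp g = g₀) :
    ∀ (n : ℕ) (A' : Type u) [CommRing A'] [IsLocalRing A'] [IsArtinianRing A'] (h : O →+* A')
      (f : Fin n → A') (_ : ∀ i, f i ∈ maximalIdeal A')
      (_ : ∀ i, ∀ a ∈ maximalIdeal A', a * f i = 0) (_ : ∀ o, IsUnit (h o) → IsUnit (θ o))
      (g₀ : B →+* A' ⧸ Ideal.span (Set.range f)),
      g₀.comp θ = (Ideal.Quotient.mk _).comp h →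
      (∀ b ∈ maximalIdeal B, g₀ b ∈ (maximalIdeal A').map (Ideal.Quotient.mk _)) →
      (∀ a : A', ∃ b : B, g₀ b - Ideal.Quotient.mk _ a ∈
        (maximalIdeal A').map (Ideal.Quotient.mk _)) →
      ∃ g : B →+* A', g.comp θ = h ∧ (Ideal.Quotient.mk _).comp g = g₀ := by
  intro n
  induction n with
  | zero =>
    intro A' _ _ _ h f _ _ _ g₀ hc _ _
    have hbot : Ideal.span (Set.range f) = ⊥ := by
      rw [Ideal.span_eq_bot]
      rintro _ ⟨i, rfl⟩
      exact i.elim0
    have hbij : Function.Bijective (Ideal.Quotient.mk (Ideal.span (Set.range f))) :=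
      ⟨(injective_iff_map_eq_zero _).2 fun x hx => by
        simpa [hbot] using Ideal.Quotient.eq_zero_iff_mem.1 hx, Ideal.Quotient.mk_surjective⟩
    refine ⟨(RingEquiv.ofBijective _ hbij).symm.toRingHom.comp g₀, RingHom.ext fun o => ?_,
      RingHom.ext fun b => ?_⟩
    · apply hbij.1
      exact ((RingEquiv.ofBijective _ hbij).apply_symm_apply _).trans (RingHom.congr_fun hc o)
    · exact (RingEquiv.ofBijective _ hbij).apply_symm_apply _
  | succ n ih =>
    intro A' _ _ _ h f hfm hf0 hu g₀ hc hloc hres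
    let f' : Fin n → A' := fun i => f i.castSucc
    let t : A' := f (Fin.last n)
    let I' : Ideal A' := Ideal.span (Set.range f')
    let I : Ideal A' := Ideal.span (Set.range f)
    have hI'm : I' ≤ maximalIdeal A' := Ideal.span_le.2 (by rintro _ ⟨i, rfl⟩; exact hfm _)
    have hIm : I ≤ maximalIdeal A' := Ideal.span_le.2 (by rintro _ ⟨i, rfl⟩; exact hfm _)
    have hle : I' ≤ I := Ideal.span_mono (by rintro _ ⟨i, rfl⟩; exact ⟨_, rfl⟩)
    have hI : I = I' ⊔ Ideal.span {t} := by
      rw [← Ideal.span_union]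
      refine congrArg Ideal.span (Set.ext fun x => ⟨?_, ?_⟩)
      · rintro ⟨i, rfl⟩
        refine Fin.lastCases ?_ (fun j => ?_) i
        · exact Or.inr rfl
        · exact Or.inl ⟨j, rfl⟩
      · rintro (⟨j, rfl⟩ | rfl)
        · exact ⟨_, rfl⟩
        · exact ⟨_, rfl⟩
    have : Nontrivial (A' ⧸ I') := Ideal.Quotient.nontrivial_iff.2 fun hh =>
      (maximalIdeal.isMaximal A').ne_top (top_le_iff.1 (hh ▸ hI'm))
    have : IsLocalRing (A' ⧸ I') :=
      IsLocalRing.of_surjective' (Ideal.Quotient.mk I') Ideal.Quotient.mk_surjective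
    have hmax : maximalIdeal (A' ⧸ I') = (maximalIdeal A').map (Ideal.Quotient.mk I') :=
      (map_maximalIdeal_of_surjective (Ideal.Quotient.mk I') Ideal.Quotient.mk_surjective).symm
    have hmapI : I.map (Ideal.Quotient.mk I') = Ideal.span {Ideal.Quotient.mk I' t} := by
      rw [hI, Ideal.map_sup, Ideal.map_quotient_self, bot_sup_eq, Ideal.map_span, Set.image_singleton]
    have hle' : I ≤ (Ideal.span {Ideal.Quotient.mk I' t}).comap (Ideal.Quotient.mk I') := by
      rw [← hmapI]; exact Ideal.le_comap_map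
    let j : A' ⧸ I →+* (A' ⧸ I') ⧸ Ideal.span {Ideal.Quotient.mk I' t} :=
      Ideal.quotientMap _ (Ideal.Quotient.mk I') hle'
    have hjinj : Function.Injective j := by
      refine (injective_iff_map_eq_zero _).2 fun x hx => ?_
      obtain ⟨x, rfl⟩ := Ideal.Quotient.mk_surjective x
      have hx' : Ideal.Quotient.mk I' x ∈ I.map (Ideal.Quotient.mk I') := by
        rw [hmapI]; exact Ideal.Quotient.eq_zero_iff_mem.1 hx
      refine Ideal.Quotient.eq_zero_iff_mem.2 ?_
      have := Ideal.mem_comap.2 hx'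
      rw [Ideal.comap_map_of_surjective _ Ideal.Quotient.mk_surjective, ← RingHom.ker_eq_comap_bot,
        Ideal.mk_ker, sup_eq_left.2 hle] at this
      exact this
    have hjm : ∀ y ∈ (maximalIdeal A').map (Ideal.Quotient.mk I),
        j y ∈ (maximalIdeal (A' ⧸ I')).map (Ideal.Quotient.mk _) := by
      intro y hy
      have h1 := Ideal.mem_map_of_mem j hy
      rwa [Ideal.map_map, show j.comp (Ideal.Quotient.mk I) =
        (Ideal.Quotient.mk (Ideal.span {Ideal.Quotient.mk I' t})).comp (Ideal.Quotient.mk I') from rfl,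
        ← Ideal.map_map, ← hmax] at h1
    obtain ⟨g₁, hg₁, hg₁'⟩ := H (A' ⧸ I') ((Ideal.Quotient.mk I').comp h) (Ideal.Quotient.mk I' t)
      (by rw [hmax]; exact Ideal.mem_map_of_mem _ (hfm _))
      (fun a ha => by
        rw [hmax, Ideal.mem_map_iff_of_surjective _ Ideal.Quotient.mk_surjective] at ha
        obtain ⟨a, ha, rfl⟩ := ha
        rw [← map_mul, hf0 _ a ha, map_zero])
      (fun o ho => hu o (by
        by_contra hn
        have : Ideal.Quotient.mk I' (h o) ∈ maximalIdeal (A' ⧸ I') := by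
          rw [hmax]; exact Ideal.mem_map_of_mem _ hn
        exact this ho))
      (j.comp g₀)
      (by rw [RingHom.comp_assoc, hc]; rfl)
      (fun b hb => hjm _ (hloc b hb))
      (fun a => by
        obtain ⟨a, rfl⟩ := Ideal.Quotient.mk_surjective a
        obtain ⟨b, hb⟩ := hres a
        refine ⟨b, ?_⟩
        have := hjm _ hb
        rwa [map_sub] at this)
    have hred : ∀ b, Ideal.Quotient.factor hle (g₁ b) = g₀ b := fun b => by
      apply hjinj
      rw [← show (Ideal.Quotient.mk _) (g₁ b) = j (g₀ b) from RingHom.congr_fun hg₁' b]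
      obtain ⟨y, hy⟩ := Ideal.Quotient.mk_surjective (g₁ b)
      rw [← hy]
      rfl
    have hmem : ∀ (y : A' ⧸ I'),
        Ideal.Quotient.factor hle y ∈ (maximalIdeal A').map (Ideal.Quotient.mk I) →
          y ∈ (maximalIdeal A').map (Ideal.Quotient.mk I') := by
      intro y hy
      obtain ⟨y, rfl⟩ := Ideal.Quotient.mk_surjective y
      rw [Ideal.Quotient.factor_mk] at hy
      refine Ideal.mem_map_of_mem _ ?_
      have := Ideal.mem_comap.2 hy
      rwa [Ideal.comap_map_of_surjective _ Ideal.Quotient.mk_surjective, ← RingHom.ker_eq_comap_bot,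
        Ideal.mk_ker, sup_eq_left.2 hIm] at this
    obtain ⟨g, hg, hg'⟩ := ih A' h f' (fun i => hfm _) (fun i => hf0 _) hu g₁
      hg₁ (fun b hb => hmem _ (by rw [hred]; exact hloc b hb))
      (fun a => by
        obtain ⟨b, hb⟩ := hres a
        exact ⟨b, hmem _ (by rwa [map_sub, hred, Ideal.Quotient.factor_mk])⟩)
    refine ⟨g, hg, RingHom.ext fun b => ?_⟩
    rw [RingHom.comp_apply, ← hred b, ← RingHom.congr_fun hg' b]
    rfl

end Induction

/-- An Artinian local algebra with residue field of finite type is of finite type. -/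
theorem finiteType_of_residue {Q R A' : Type u} [CommRing Q] [CommRing R] [CommRing A']
    [IsLocalRing A'] [IsArtinianRing A'] [Algebra Q R] [Algebra.FiniteType Q R] (h : Q →+* A')
    (ψ : R →+* A' ⧸ maximalIdeal A') (hψ : Function.Surjective ψ)
    (hc : ψ.comp (algebraMap Q R) = (Ideal.Quotient.mk _).comp h) : h.FiniteType := by
  classical
  let _ : Algebra Q A' := h.toAlgebra
  obtain ⟨s, hs⟩ := Algebra.FiniteType.out (R := Q) (A := R)
  obtain ⟨gm, hgm⟩ := (IsNoetherian.noetherian (maximalIdeal A') : (maximalIdeal A').FG)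
  choose l hl using fun x : A' ⧸ maximalIdeal A' => Ideal.Quotient.mk_surjective x
  let B : Subalgebra Q A' := Algebra.adjoin Q ((s.image fun r => l (ψ r)) ∪ gm : Finset A')
  have hgen : ∀ x ∈ gm, x ∈ B := fun x hx =>
    Algebra.subset_adjoin (Finset.mem_union_right _ hx)
  have hres : ∀ a, ∃ b ∈ B, a - b ∈ maximalIdeal A' := by
    intro a
    obtain ⟨r, hr⟩ := hψ (Ideal.Quotient.mk _ a)
    suffices ∀ r, ∃ b ∈ B, Ideal.Quotient.mk (maximalIdeal A') b = ψ r by
      obtain ⟨b, hb, hb'⟩ := this r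
      exact ⟨b, hb, Ideal.Quotient.eq.1 (hr.symm.trans hb'.symm)⟩
    intro r
    have hr : r ∈ Algebra.adjoin Q (s : Set R) := hs ▸ Algebra.mem_top
    induction hr using Algebra.adjoin_induction with
    | mem x hx =>
      exact ⟨_, Algebra.subset_adjoin (Finset.mem_union_left _ (Finset.mem_image_of_mem _ hx)),
        hl _⟩
    | algebraMap q => exact ⟨_, B.algebraMap_mem q, (RingHom.congr_fun hc q).symm⟩
    | add x y _ _ hx hy =>
      obtain ⟨a, ha, ha'⟩ := hx
      obtain ⟨b, hb, hb'⟩ := hy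
      exact ⟨a + b, add_mem ha hb, by rw [map_add, map_add, ha', hb']⟩
    | mul x y _ _ hx hy =>
      obtain ⟨a, ha, ha'⟩ := hx
      obtain ⟨b, hb, hb'⟩ := hy
      exact ⟨a * b, mul_mem ha hb, by rw [map_mul, map_mul, ha', hb']⟩
  have hm : ∀ c ∈ maximalIdeal A', ∃ b ∈ B, b ∈ maximalIdeal A' ∧ c - b ∈ maximalIdeal A' ^ 2 := by
    intro c hc
    rw [← hgm] at hc
    induction hc using Submodule.span_induction with
    | mem x hx =>
      exact ⟨x, hgen x hx, by rw [← hgm]; exact Submodule.subset_span hx, by simp⟩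
    | zero => exact ⟨0, zero_mem _, zero_mem _, by simp⟩
    | add x y _ _ hx hy =>
      obtain ⟨a, ha, ha', ha''⟩ := hx
      obtain ⟨b, hb, hb', hb''⟩ := hy
      exact ⟨a + b, add_mem ha hb, add_mem ha' hb', by
        rw [add_sub_add_comm]; exact add_mem ha'' hb''⟩
    | smul r x _ hx =>
      obtain ⟨a, ha, ha', ha''⟩ := hx
      obtain ⟨c, hc, hc'⟩ := hres r
      refine ⟨c * a, mul_mem hc ha, Ideal.mul_mem_left _ c ha', ?_⟩
      rw [smul_eq_mul, show r * x - c * a = r * (x - a) + (r - c) * a by ring]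
      refine add_mem (Ideal.mul_mem_left _ r ha'') ?_
      rw [pow_two]
      exact Ideal.mul_mem_mul hc' ha'
  have hk : ∀ k, ∀ x ∈ maximalIdeal A' ^ k, ∃ b ∈ B, b ∈ maximalIdeal A' ^ k ∧
      x - b ∈ maximalIdeal A' ^ (k + 1) := by
    intro k
    induction k with
    | zero =>
      intro x _
      obtain ⟨b, hb, hb'⟩ := hres x
      exact ⟨b, hb, by simp, by simpa using hb'⟩
    | succ k ih =>
      intro x hx
      rw [pow_succ] at hx
      induction hx using Submodule.mul_induction_on' with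
      | mem_mul_mem a ha c hc =>
        obtain ⟨b, hb, hb', hb''⟩ := ih a ha
        obtain ⟨d, hd, hd', hd''⟩ := hm c hc
        refine ⟨b * d, mul_mem hb hd, by rw [pow_succ]; exact Ideal.mul_mem_mul hb' hd', ?_⟩
        rw [show a * c - b * d = (a - b) * d + a * (c - d) by ring]
        refine add_mem (by rw [pow_succ]; exact Ideal.mul_mem_mul hb'' hd') ?_
        rw [show k + 1 + 1 = k + 2 from rfl, pow_add]
        exact Ideal.mul_mem_mul ha hd''
      | add x _ y _ hx hy =>
        obtain ⟨a, ha, ha', ha''⟩ := hx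
        obtain ⟨b, hb, hb', hb''⟩ := hy
        exact ⟨a + b, add_mem ha hb, add_mem ha' hb', by
          rw [add_sub_add_comm]; exact add_mem ha'' hb''⟩
  have hall : ∀ k, ∀ x : A', ∃ b ∈ B, x - b ∈ maximalIdeal A' ^ k := by
    intro k
    induction k with
    | zero => exact fun x => ⟨0, zero_mem _, by simp⟩
    | succ k ih =>
      intro x
      obtain ⟨b, hb, hb'⟩ := ih x
      obtain ⟨c, hc, -, hc'⟩ := hk k _ hb'
      exact ⟨b + c, add_mem hb hc, by rwa [sub_add_eq_sub_sub]⟩
  obtain ⟨N, hN⟩ := IsArtinianRing.isNilpotent_jacobson_bot (R := A')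
  rw [IsLocalRing.jacobson_eq_maximalIdeal _ bot_ne_top] at hN
  refine ⟨⟨(s.image fun r => l (ψ r)) ∪ gm, top_le_iff.1 fun x _ => ?_⟩⟩
  obtain ⟨b, hb, hb'⟩ := hall N x
  rw [hN] at hb'
  rwa [sub_eq_zero.1 (show x - b = 0 from hb')]

variable {S : Scheme.{u}} {F G : Sp S} {f : F ⟶ G}

/-- The lifting hypothesis on small extensions over a chart gives smoothness near a point. -/
theorem smooth_nhd_of_lifts {U V : Over S} (a : (yon S).obj U ⟶ F) (b : (yon S).obj V ⟶ G)
    (h : U ⟶ V) (ha : RepWith @Etale a) (hb : RepWith @Etale b)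
    (w : a ≫ f = (yon S).map h ≫ b) [IsLocallyNoetherian V.left] [LocallyOfFiniteType h.left]
    (u : U.left) (good : ∀ (A' : Type u) [CommRing A'] [IsLocalRing A'] [IsArtinianRing A'],
      (Spec (CommRingCat.of A') ⟶ V.left) → Prop)
    (hgood : ∀ (A' : Type u) [CommRing A'] [IsLocalRing A'] [IsArtinianRing A']
      (h' : V.left.presheaf.stalk (h.left u) →+* A') (t : A') (_ : t ∈ maximalIdeal A')
      (g₀ : U.left.presheaf.stalk u →+* A' ⧸ Ideal.span {t}),
      g₀.comp (h.left.stalkMap u).hom = (Ideal.Quotient.mk _).comp h' →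
      (∀ z : A', ∃ o, g₀ o - Ideal.Quotient.mk _ z ∈
        (maximalIdeal A').map (Ideal.Quotient.mk _)) →
      good A' (Spec.map (ofHom h') ≫ V.left.fromSpecStalk (h.left u)))
    (lifts : ∀ (B' B : Type u) [CommRing B'] [CommRing B] [IsLocalRing B'] [IsLocalRing B]
        [IsArtinianRing B'] [IsArtinianRing B] (π : B' →+* B), Function.Surjective π →
        (∃ t : B', RingHom.ker π = Ideal.span {t} ∧ ∀ a ∈ maximalIdeal B', a * t = 0) →
        ∀ (α : Spec (CommRingCat.of B) ⟶ U.left) (β : Spec (CommRingCat.of B') ⟶ V.left),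
          good B' β → Spec.map (ofHom π) ≫ β = α ≫ h.left → α (closedPoint B) = u →
          ∃ γ : (yon S).obj (Over.mk (β ≫ V.hom)) ⟶ F,
            (∀ (e : Over.mk (Spec.map (ofHom π) ≫ β ≫ V.hom) ⟶ U), e.left = α →
              (yon S).map (Over.homMk (Spec.map (ofHom π)) :
                Over.mk (Spec.map (ofHom π) ≫ β ≫ V.hom) ⟶ Over.mk (β ≫ V.hom)) ≫ γ =
                  (yon S).map e ≫ a) ∧
            γ ≫ f = (yon S).map (Over.homMk β rfl : Over.mk (β ≫ V.hom) ⟶ V) ≫ b) :
    ∃ W : U.left.Opens, u ∈ W ∧ Smooth (W.ι ≫ h.left) := by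
  rw [Groth.Agent.S2793.result h.left u]
  intro A' _ _ _ h' _ I hI hIm g₀ hc hloc hres
  obtain ⟨n, fI, hfI⟩ := Submodule.fg_iff_exists_fin_generating_family.1
    (IsNoetherian.noetherian I : I.FG)
  have hfm : ∀ i, fI i ∈ maximalIdeal A' := fun i =>
    le_maximalIdeal hI (hfI ▸ Submodule.subset_span ⟨i, rfl⟩)
  have hf0 : ∀ i, ∀ a ∈ maximalIdeal A', a * fI i = 0 := fun i a ha => by
    have : fI i * a ∈ I * maximalIdeal A' :=
      Ideal.mul_mem_mul (hfI ▸ Submodule.subset_span ⟨i, rfl⟩) ha
    rw [hIm, Ideal.mem_bot] at this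
    rwa [mul_comm]
  subst hfI
  refine exists_lift_of_principal (h.left.stalkMap u).hom ?_ n A' h' fI hfm hf0 ?_ g₀ hc hloc hres
  · intro C _ _ _ k t ht htm hu g hgc hgloc hgres
    have htsq : Ideal.span {t} ≤ maximalIdeal C := (Ideal.span_singleton_le_iff_mem _).2 ht
    have : Nontrivial (C ⧸ Ideal.span {t}) := Ideal.Quotient.nontrivial_iff.2 fun hh =>
      (maximalIdeal.isMaximal C).ne_top (top_le_iff.1 (hh ▸ htsq))
    have : IsLocalRing (C ⧸ Ideal.span {t}) :=
      IsLocalRing.of_surjective' (Ideal.Quotient.mk _) Ideal.Quotient.mk_surjective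
    have hmax : maximalIdeal (C ⧸ Ideal.span {t}) =
        (maximalIdeal C).map (Ideal.Quotient.mk (Ideal.span {t})) :=
      (map_maximalIdeal_of_surjective _ Ideal.Quotient.mk_surjective).symm
    have hgl : IsLocalHom g := ⟨fun o ho => by
      by_contra hn
      exact (mem_maximalIdeal _).1 (hmax ▸ hgloc o hn : g o ∈ maximalIdeal _) ho⟩
    have hkl : IsLocalHom k := ⟨fun o ho => isUnit_of_map_unit _ _ (hu o ho)⟩
    let π : C →+* C ⧸ Ideal.span {t} := Ideal.Quotient.mk _
    let α : Spec (CommRingCat.of (C ⧸ Ideal.span {t})) ⟶ U.left :=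
      Spec.map (ofHom g) ≫ U.left.fromSpecStalk u
    let β : Spec (CommRingCat.of C) ⟶ V.left :=
      Spec.map (ofHom k) ≫ V.left.fromSpecStalk (h.left u)
    have hcomm : Spec.map (ofHom π) ≫ β = α ≫ h.left := by
      simp only [α, β, Category.assoc]
      rw [← Scheme.SpecMap_stalkMap_fromSpecStalk, ← Category.assoc, ← Category.assoc,
        ← Spec.map_comp, ← Spec.map_comp]
      congr 2
      exact CommRingCat.hom_ext hgc.symm
    have hαu : α (closedPoint _) = u := by
      have : IsLocalHom (ofHom g).hom := hgl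
      show (Spec.map (ofHom g) ≫ U.left.fromSpecStalk u) _ = u
      rw [Scheme.Hom.comp_apply, Spec_closedPoint]
      exact Scheme.fromSpecStalk_closedPoint
    obtain ⟨γ, hγ₁, hγ₂⟩ := lifts C (C ⧸ Ideal.span {t}) π Ideal.Quotient.mk_surjective
      ⟨t, Ideal.mk_ker, htm⟩ α β (hgood C k t ht g hgc hgres) hcomm hαu
    let str : Spec (CommRingCat.of C) ⟶ S := β ≫ V.hom
    let P : Over S := Over.mk (Spec.map (ofHom π) ≫ str)
    let i : P ⟶ Over.mk str := Over.homMk (Spec.map (ofHom π)) rfl
    let e : P ⟶ U := Over.homMk α (by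
      show α ≫ U.hom = Spec.map (ofHom π) ≫ β ≫ V.hom
      rw [reassoc_of% hcomm, Over.w h])
    let eb : Over.mk str ⟶ V := Over.homMk β rfl
    have hsq0 : Ideal.span {t} ^ 2 = ⊥ := by
      rw [pow_two, Ideal.span_singleton_mul_span_singleton, htm t ht, Ideal.span_singleton_eq_bot]
    let sq : InfSq a :=
      { A := C, I := Ideal.span {t}, sq_zero := hsq0, str := str, top := (yon S).map e, bot := γ,
        comm := (hγ₁ e rfl).symm }
    obtain ⟨l, ⟨hl₁, hl₂⟩, -⟩ := (formal_of_repWith a).2.1 ha sq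
    obtain ⟨m, rfl⟩ := (yon S).map_surjective l
    have hmi : i ≫ m = e := (yon S).map_injective ((Functor.map_comp _ _ _).trans hl₁)
    have hmh : m ≫ h = eb := by
      let sqb : InfSq b :=
        { A := C, I := Ideal.span {t}, sq_zero := hsq0, str := str,
          top := (yon S).map (e ≫ h), bot := γ ≫ f,
          comm := by
            show (yon S).map (e ≫ h) ≫ b = (yon S).map i ≫ γ ≫ f
            rw [Functor.map_comp, Category.assoc, ← w, ← Category.assoc, ← Category.assoc]
            exact congrArg (· ≫ f) (hγ₁ e rfl).symm }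
      refine (yon S).map_injective (((isFormallyEtaleMor_iff b).1 ((formal_of_repWith b).2.1 hb)).2
        sqb _ _ ?_ ?_ ?_ hγ₂.symm)
      · show (yon S).map i ≫ (yon S).map (m ≫ h) = (yon S).map (e ≫ h)
        rw [← Functor.map_comp, ← Category.assoc, hmi]
      · rw [Functor.map_comp, Category.assoc, ← w, ← Category.assoc]
        exact congrArg (· ≫ f) hl₂
      · show (yon S).map i ≫ (yon S).map eb = (yon S).map (e ≫ h)
        rw [← Functor.map_comp]
        exact congrArg _ (Over.OverMorphism.ext hcomm)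
    have hcl : m.left (closedPoint C) = u := by
      have h1 : (Spec.map (ofHom π) ≫ m.left) (closedPoint _) = u := by
        rw [show Spec.map (ofHom π) ≫ m.left = α from congrArg CommaMorphism.left hmi]; exact hαu
      have : IsLocalHom (ofHom π).hom :=
        IsLocalHom.of_surjective _ Ideal.Quotient.mk_surjective
      rwa [Scheme.Hom.comp_apply, Spec_closedPoint] at h1
    obtain ⟨G₀, hG₀⟩ : ∃ G₀ : U.left.presheaf.stalk u ⟶ CommRingCat.of C,
        Spec.map G₀ ≫ U.left.fromSpecStalk u = m.left := by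
      have : ∀ x, m.left (closedPoint C) = x → ∃ G₀ : U.left.presheaf.stalk x ⟶ CommRingCat.of C,
          Spec.map G₀ ≫ U.left.fromSpecStalk x = m.left := by
        rintro _ rfl
        exact ⟨_, Scheme.Spec_stalkClosedPointTo_fromSpecStalk m.left⟩
      exact this u hcl
    refine ⟨G₀.hom, ?_, ?_⟩
    · have h1 : Spec.map (h.left.stalkMap u ≫ G₀) ≫ V.left.fromSpecStalk (h.left u) =
          Spec.map (ofHom k) ≫ V.left.fromSpecStalk (h.left u) := by
        rw [Spec.map_comp, Category.assoc, Scheme.SpecMap_stalkMap_fromSpecStalk,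
          reassoc_of% hG₀]
        exact congrArg CommaMorphism.left hmh
      exact congrArg CommRingCat.Hom.hom (Spec.map_injective ((cancel_mono _).1 h1))
    · have h1 : Spec.map (G₀ ≫ ofHom π) ≫ U.left.fromSpecStalk u =
          Spec.map (ofHom g) ≫ U.left.fromSpecStalk u := by
        rw [Spec.map_comp, Category.assoc, hG₀]
        exact congrArg CommaMorphism.left hmi
      exact congrArg CommRingCat.Hom.hom (Spec.map_injective ((cancel_mono _).1 h1))
  · intro o ho
    have : IsUnit o := isUnit_of_map_unit h' o ho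
    exact this.map _

/-- Closed points of an affine open give residue fields of finite type. -/
theorem residue_surjective {X : Scheme.{u}} {U : X.Opens} (hU : IsAffineOpen U)
    (P : PrimeSpectrum Γ(X, U)) [P.asIdeal.IsMaximal] (hP : hU.fromSpec P ∈ U)
    (o : X.presheaf.stalk (hU.fromSpec P)) :
    ∃ r, o - X.presheaf.germ U _ hP r ∈ maximalIdeal (X.presheaf.stalk (hU.fromSpec P)) := by
  let _ : Algebra Γ(X, U) (X.presheaf.stalk (hU.fromSpec P)) :=
    (X.presheaf.germ U _ hP).hom.toAlgebra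
  have : IsLocalization.AtPrime (X.presheaf.stalk (hU.fromSpec P)) P.asIdeal :=
    hU.isLocalization_stalk' P hP
  obtain ⟨r, hr⟩ := (IsLocalization.AtPrime.equivQuotMaximalIdeal P.asIdeal
    (X.presheaf.stalk (hU.fromSpec P))).surjective (Ideal.Quotient.mk _ o)
  obtain ⟨r, rfl⟩ := Ideal.Quotient.mk_surjective r
  rw [IsLocalization.AtPrime.equivQuotMaximalIdeal_apply_mk] at hr
  exact ⟨r, Ideal.Quotient.eq.1 hr.symm⟩

/-- A nonempty closed subset of a scheme contains a point which is closed in some affine open. -/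
theorem exists_maximal_point {X : Scheme.{u}} {U : X.Opens} (hU : IsAffineOpen U) (Z : Set X)
    (hZ : IsClosed Z) (hne : (Z ∩ (U : Set X)).Nonempty) :
    ∃ P : PrimeSpectrum Γ(X, U), P.asIdeal.IsMaximal ∧ hU.fromSpec P ∈ Z := by
  obtain ⟨x, hxZ, hxU⟩ := hne
  obtain ⟨P, hPZ, hPc⟩ := (hZ.preimage hU.fromSpec.continuous).exists_closed_singleton
    ⟨hU.primeIdealOf ⟨x, hxU⟩, by simpa [hU.fromSpec_primeIdealOf] using hxZ⟩
  exact ⟨P, (PrimeSpectrum.isClosed_singleton_iff_isMaximal P).1 hPc, hPZ⟩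

end Groth.Agent.AlgSpLib.SmLift
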