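import Groth.Agent.AlgSpLib.SmLift.Reduce
import Groth.Agent.AlgSpLib.InfCharts
import Groth.Agent.S1488

/-!
# Consequences of lifting along smooth charts
-/

set_option backward.isDefEq.respectTransparency false
set_option backward.isDefEq.respectTransparency.types false

universe u

open CategoryTheory CategoryTheory.Limits AlgebraicGeometry Opposite AlgSp CommRingCat

namespace Groth.Agent.AlgSpLib.SmLift

variable {S : Scheme.{u}} {F G : Sp S} {f : F ⟶ G}

/-- A lift exists when every point of the small scheme comes from a smooth chart. -/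
theorem hasLift_of_points (sq : InfSq f) {U V : Over S} (a : (yon S).obj U ⟶ F)
    (b : (yon S).obj V ⟶ G) (h : U ⟶ V) (ha : RepWith @Etale a) (hb : RepWith @Etale b)
    (hw : a ≫ f = (yon S).map h ≫ b) (hh : Smooth h.left)
    (hcov : ∀ t, ∃ u, Points.ofPt a u = Points.ofPt sq.top t) : sq.HasLift := by
  refine hasLift_of_chart sq a b h ha hb hw hh fun t => ?_
  obtain ⟨u, hu⟩ := hcov t
  obtain ⟨w, -, hw⟩ := exists_ofPt_of_eq (ha.1.isPullback' sq.top) hu
  exact ⟨w, hw⟩

/-- Lifting along an arbitrary square-zero surjection. -/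
theorem exists_of_surjective {B' B : Type u} [CommRing B'] [CommRing B] (π : B' →+* B)
    (hπ : Function.Surjective π) (hsq : RingHom.ker π ^ 2 = ⊥)
    (s : Spec (CommRingCat.of B') ⟶ S)
    (α : (yon S).obj (Over.mk (Spec.map (ofHom π) ≫ s)) ⟶ F)
    (β : (yon S).obj (Over.mk s) ⟶ G)
    (w : α ≫ f = (yon S).map (Over.homMk (Spec.map (ofHom π)) :
      Over.mk (Spec.map (ofHom π) ≫ s) ⟶ Over.mk s) ≫ β)
    (H : ∀ sq : InfSq f, (∀ t, ∃ t', Points.ofPt α t' = Points.ofPt sq.top t) → sq.HasLift) :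
    ∃ γ : (yon S).obj (Over.mk s) ⟶ F,
      (yon S).map (Over.homMk (Spec.map (ofHom π)) :
        Over.mk (Spec.map (ofHom π) ≫ s) ⟶ Over.mk s) ≫ γ = α ∧ γ ≫ f = β := by
  let J : Ideal B' := RingHom.ker π
  let ε : B' ⧸ J ≃+* B := RingHom.quotientKerEquivOfSurjective hπ
  have hε : ε.toRingHom.comp (Ideal.Quotient.mk J) = π :=
    RingHom.ext fun x => RingHom.quotientKerEquivOfSurjective_apply_mk hπ x
  have hε' : ε.symm.toRingHom.comp π = Ideal.Quotient.mk J := RingHom.ext fun x => by
    rw [← hε]; exact ε.symm_apply_apply _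
  let T : Over S := Over.mk (Spec.map (ofHom π) ≫ s)
  let P : Over S := Over.mk (Spec.map (ofHom (Ideal.Quotient.mk J)) ≫ s)
  let j : P ⟶ Over.mk s := Over.homMk (Spec.map (ofHom (Ideal.Quotient.mk J))) rfl
  let i : T ⟶ Over.mk s := Over.homMk (Spec.map (ofHom π)) rfl
  let e : P ⟶ T := Over.homMk (Spec.map (ofHom ε.symm.toRingHom)) (by
    show Spec.map _ ≫ Spec.map _ ≫ s = Spec.map _ ≫ s
    rw [← Category.assoc, ← Spec.map_comp, ← ofHom_comp, hε'])
  let e' : T ⟶ P := Over.homMk (Spec.map (ofHom ε.toRingHom)) (by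
    show Spec.map _ ≫ Spec.map _ ≫ s = Spec.map _ ≫ s
    rw [← Category.assoc, ← Spec.map_comp, ← ofHom_comp, hε])
  have hj : e ≫ i = j := Over.OverMorphism.ext (by
    show Spec.map _ ≫ Spec.map _ = Spec.map _
    rw [← Spec.map_comp, ← ofHom_comp, hε'])
  have hj' : e' ≫ j = i := Over.OverMorphism.ext (by
    show Spec.map _ ≫ Spec.map _ = Spec.map _
    rw [← Spec.map_comp, ← ofHom_comp, hε])
  have hee : e' ≫ e = 𝟙 _ := Over.OverMorphism.ext (by
    show Spec.map _ ≫ Spec.map _ = 𝟙 _
    rw [← Spec.map_comp, ← ofHom_comp, ← Spec.map_id]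
    congr 1
    ext x
    exact ε.apply_symm_apply x)
  let sq : InfSq f :=
    { A := B', I := J, sq_zero := hsq, str := s, top := (yon S).map e ≫ α, bot := β
      comm := by
        show ((yon S).map e ≫ α) ≫ f = (yon S).map j ≫ β
        rw [Category.assoc, w, ← Functor.map_comp_assoc]
        exact congrArg (fun k => (yon S).map k ≫ β) hj }
  obtain ⟨l, hl₁, hl₂⟩ := H sq fun t => ⟨e.left t, (ofPt_comp e α t).symm⟩
  refine ⟨l, ?_, hl₂⟩
  show (yon S).map i ≫ l = α
  rw [← hj', Functor.map_comp, Category.assoc]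
  refine (congrArg ((yon S).map e' ≫ ·) hl₁).trans ?_
  show (yon S).map e' ≫ (yon S).map e ≫ α = α
  rw [← Functor.map_comp_assoc, hee]
  simp

/-- Formal smoothness of sheaves gives formal smoothness of schemes. -/
theorem isFormallySmoothHom_of_isFormallySmoothMor {U V : Over S} {h : U ⟶ V}
    (hh : IsFormallySmoothMor ((yon S).map h)) : MoreMor.IsFormallySmoothHom h.left := by
  intro A _ I hI a b w
  obtain ⟨t, β, ht, hβ, hw⟩ := exists_infSq_yon h I hI a b w
  let sq : InfSq ((yon S).map h) :=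
    { A := A, I := I, sq_zero := hI, str := b ≫ V.hom, top := (yon S).map t, bot := (yon S).map β,
      comm := hw }
  obtain ⟨l, hl₁, hl₂⟩ := hh sq
  obtain ⟨m, rfl⟩ := (yon S).map_surjective l
  refine ⟨m.left, ?_, ?_⟩
  · rw [← ht]
    exact congrArg CommaMorphism.left ((yon S).map_injective (((yon S).map_comp _ _).trans hl₁))
  · rw [← hβ]
    exact congrArg CommaMorphism.left ((yon S).map_injective (((yon S).map_comp _ _).trans hl₂))

variable (f)

/-- Smooth morphisms of algebraic spaces are formally smooth. -/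
theorem isFormallySmoothMor_of_smooth (hF : IsAlgSpace F) (hG : IsAlgSpace G)
    (hf : LocP @Smooth f) : IsFormallySmoothMor f := fun sq => by
  obtain ⟨U, V, a, b, h, ha, ha', hb, -, w⟩ := exists_chart hF hG f
  exact hasLift_of_points sq a b h ha hb w (hf a b h ha hb w) fun t => surjective_ofPt ha' _

/-- Chart morphisms of formally smooth morphisms are formally smooth. -/
theorem isFormallySmoothHom_of_chart (hf : IsFormallySmoothMor f) {U V : Over S}
    (a : (yon S).obj U ⟶ F) (b : (yon S).obj V ⟶ G) (h : U ⟶ V) (ha : RepWith @Etale a)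
    (hb : RepWith @Etale b) (w : a ≫ f = (yon S).map h ≫ b) :
    MoreMor.IsFormallySmoothHom h.left := by
  refine isFormallySmoothHom_of_isFormallySmoothMor
    (isFormallySmoothMor_of_comp ((isFormallyEtaleMor_iff b).1 ((formal_of_repWith b).2.1 hb)).2 ?_)
  rw [← w]
  exact isFormallySmoothMor_comp ((isFormallyEtaleMor_iff a).1 ((formal_of_repWith a).2.1 ha)).1 hf

/-- Smooth is locally of finite presentation and formally smooth. -/
theorem smooth_iff (hF : IsAlgSpace F) (hG : IsAlgSpace G) :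
    LocP @Smooth f ↔ LocP @LocallyOfFinitePresentation f ∧ IsFormallySmoothMor f := by
  refine ⟨fun h => ⟨fun U V a b k ha hb w => ((Groth.Agent.S1488.result k.left).1 (h a b k ha hb w)).1,
    isFormallySmoothMor_of_smooth f hF hG h⟩, fun h U V a b k ha hb w => ?_⟩
  exact (Groth.Agent.S1488.result k.left).2
    ⟨h.1 a b k ha hb w, isFormallySmoothHom_of_chart f h.2 a b k ha hb w⟩

end Groth.Agent.AlgSpLib.SmLift
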