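import Groth.Agent.AlgSpLib.SmLift.Core
import Groth.Agent.AlgSpDec.Glue
import Groth.Agent.EtFound.LiftEtale

/-!
# Smooth charts give lifts

An infinitesimal lifting square whose small scheme is covered by a smooth chart has a lift.
-/

set_option backward.isDefEq.respectTransparency false
set_option backward.isDefEq.respectTransparency.types false

universe u

open CategoryTheory CategoryTheory.Limits AlgebraicGeometry Opposite AlgSp CommRingCat

namespace Groth.Agent.AlgSpLib.SmLift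

/-- The reduction of a finite product of algebras is the product of the reductions. -/
theorem bijective_mapQ_pi {A : Type u} [CommRing A] (I : Ideal A) {ι : Type u} [Finite ι]
    (C : ι → Type u) [∀ i, CommRing (C i)] [∀ i, Algebra A (C i)] :
    Function.Bijective (Pi.algHom A _ fun i => mapQ I (Pi.evalAlgHom A C i) :
      (∀ i, C i) ⧸ ext I (∀ i, C i) →ₐ[A] ∀ i, C i ⧸ ext I (C i)) := by
  classical
  cases nonempty_fintype ι
  refine ⟨(injective_iff_map_eq_zero _).2 fun x hx => ?_, fun y => ?_⟩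
  · obtain ⟨x, rfl⟩ := Ideal.Quotient.mk_surjective x
    refine Ideal.Quotient.eq_zero_iff_mem.2 ?_
    rw [← Finset.univ_sum_single x]
    refine Submodule.sum_mem _ fun i _ => ?_
    have hi : x i ∈ ext I (C i) := Ideal.Quotient.eq_zero_iff_mem.1 (congrFun hx i)
    show Pi.single i (x i) ∈ I.map (algebraMap A (∀ i, C i))
    change x i ∈ I.map (algebraMap A (C i)) at hi
    rw [← Submodule.restrictScalars_mem A, ← Ideal.smul_top_eq_map] at hi ⊢
    have := Submodule.mem_map_of_mem (f := LinearMap.single A C i) hi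
    rw [Submodule.map_smul''] at this
    exact Submodule.smul_mono le_rfl le_top this
  · choose z hz using fun i => Ideal.Quotient.mk_surjective (y i)
    exact ⟨Ideal.Quotient.mk _ z, funext hz⟩

variable {S : Scheme.{u}} {F G : Sp S} {f : F ⟶ G}

/-- The pieces of a chart near one point. -/
theorem exists_piece_chart (sq : InfSq f) {U V : Over S} {a : (yon S).obj U ⟶ F} (h : U ⟶ V)
    (hh : Smooth h.left) (ha : RepWith @Etale a) (w : ↥(ha.1.pullback sq.top).left) :
    ∃ (R Q C : CommRingCat.{u}) (φ : Q ⟶ R) (σ : Spec R ⟶ U.left) (τ : Spec Q ⟶ V.left)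
      (γ : CommRingCat.of sq.A ⟶ C) (χ : R ⟶ CommRingCat.of (C ⧸ sq.I.map γ.hom))
      (z : Spec (CommRingCat.of (C ⧸ sq.I.map γ.hom)) ⟶ (ha.1.pullback sq.top).left)
      (q : ha.1.pullback sq.top ⟶ U),
      (yon S).map q = ha.1.fst sq.top ∧ IsOpenImmersion σ ∧ IsOpenImmersion τ ∧
      Smooth (Spec.map φ) ∧ Spec.map φ ≫ τ = σ ≫ h.left ∧ Etale (Spec.map γ) ∧
      z ≫ (ha.1.snd sq.top).left =
        Spec.map (ofHom (Ideal.quotientMap (sq.I.map γ.hom) γ.hom Ideal.le_comap_map)) ∧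
      z ≫ q.left = Spec.map χ ≫ σ ∧
      sq.j.left ((ha.1.snd sq.top).left w) ∈ Set.range (Spec.map γ) := by
  obtain ⟨q, hq⟩ : ∃ q : ha.1.pullback sq.top ⟶ U, (yon S).map q = ha.1.fst sq.top :=
    (yon S).map_surjective _
  let p := (ha.1.snd sq.top).left
  have : Etale p := ha.2 sq.top _ _ (ha.1.isPullback sq.top)
  obtain ⟨Vi, hVi, hv, -⟩ := exists_isAffineOpen_mem_and_subset (x := h.left (q.left w))
    (U := (⊤ : V.left.Opens)) trivial
  obtain ⟨Ui, hUi, hu, hle⟩ := exists_isAffineOpen_mem_and_subset (x := q.left w)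
    (U := h.left ⁻¹ᵁ Vi) hv
  have hle' : Ui ≤ h.left ⁻¹ᵁ Vi := hle
  let W : (ha.1.pullback sq.top).left.Opens := q.left ⁻¹ᵁ Ui
  have hcl : IsClosedImmersion sq.j.left :=
    IsClosedImmersion.spec_of_surjective _ Ideal.Quotient.mk_surjective
  obtain ⟨Vt, hV, hVf, -, hwV⟩ := Groth.Agent.EtFound.exists_etale_lift sq.j.left (W.ι ≫ p)
    (⟨w, hu⟩ : W)
  obtain ⟨y, hy⟩ := hwV
  obtain ⟨i, c, hc⟩ := Vt.left.affineOpenCover.openCover.exists_eq (pullback.fst Vt.hom sq.j.left y)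
  let C := Vt.left.affineOpenCover.X i
  let r : Spec C ⟶ Vt.left := Vt.left.affineOpenCover.f i
  let g : Spec C ⟶ Spec (CommRingCat.of sq.A) := r ≫ Vt.hom
  let γ : CommRingCat.of sq.A ⟶ C := Spec.preimage g
  have hγ : Spec.map γ = g := Spec.map_preimage g
  let J : Ideal C := sq.I.map γ.hom
  have hsq : (Spec.map (ofHom (Ideal.Quotient.mk J)) ≫ r) ≫ Vt.hom =
      Spec.map (ofHom (Ideal.quotientMap J γ.hom Ideal.le_comap_map)) ≫ sq.j.left := by
    show (_ ≫ r) ≫ Vt.hom = Spec.map _ ≫ Spec.map (ofHom (Ideal.Quotient.mk sq.I))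
    rw [Category.assoc, show r ≫ Vt.hom = Spec.map γ from hγ.symm, ← Spec.map_comp, ← Spec.map_comp]
    congr 1
  let zW := pullback.lift (Spec.map (ofHom (Ideal.Quotient.mk J)) ≫ r) _ hsq ≫ hV
  have hσ : IsOpenImmersion hUi.fromSpec := inferInstance
  have hrange : Set.range ((zW ≫ W.ι) ≫ q.left) ⊆ Set.range hUi.fromSpec := by
    rintro _ ⟨x, rfl⟩
    rw [hUi.range_fromSpec]
    simp only [Scheme.Hom.comp_apply]
    exact (zW x).2
  refine ⟨Γ(U.left, Ui), Γ(V.left, Vi), C, h.left.appLE Vi Ui hle', hUi.fromSpec, hVi.fromSpec, γ,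
    Spec.preimage (IsOpenImmersion.lift hUi.fromSpec _ hrange), zW ≫ W.ι, q, hq, hσ, inferInstance,
    ?_, (hVi.SpecMap_appLE_fromSpec h.left hUi hle'), ?_, ?_, ?_, ?_⟩
  · exact HasRingHomProperty.Spec_iff.2
      (HasRingHomProperty.appLE @Smooth h.left hh ⟨Vi, hVi⟩ ⟨Ui, hUi⟩ hle')
  · rw [hγ]
    have : IsOpenImmersion r := Vt.left.affineOpenCover.openCover.map_prop i
    have : Etale Vt.hom := Vt.prop
    show Etale (r ≫ Vt.hom)
    infer_instance
  · simp only [zW, Category.assoc]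
    exact (congrArg (_ ≫ ·) hVf).trans (pullback.lift_snd _ _ _)
  · rw [Spec.map_preimage, IsOpenImmersion.lift_fac]
  · refine ⟨c, ?_⟩
    rw [hγ]
    show (r ≫ Vt.hom) c = _
    rw [Scheme.Hom.comp_apply]
    refine (congrArg Vt.hom hc).trans ?_
    rw [← Scheme.Hom.comp_apply, pullback.condition, Scheme.Hom.comp_apply]
    refine congrArg sq.j.left ?_
    rw [← hVf, Scheme.Hom.comp_apply, hy]
    rfl

set_option maxHeartbeats 1000000 in
/-- A lift exists when the small scheme is covered by a smooth chart. -/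
theorem hasLift_of_chart (sq : InfSq f) {U V : Over S} (a : (yon S).obj U ⟶ F)
    (b : (yon S).obj V ⟶ G) (h : U ⟶ V) (ha : RepWith @Etale a) (hb : RepWith @Etale b)
    (hw : a ≫ f = (yon S).map h ≫ b) (hh : Smooth h.left)
    (hcov : Function.Surjective (ha.1.snd sq.top).left) : sq.HasLift := by
  classical
  choose wt hwt using hcov
  choose R Q C φ σ τ γ χ z q hq hσ hτ hφ hστ hγ hzp hzq hmem using
    fun t : ↥sq.ptT.left => exists_piece_chart sq h hh ha (wt t)
  have hthick := Groth.Agent.MorLib.isFirstOrderThickening_quotientMk sq.A sq.I sq.sq_zero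
  have hjs : Function.Surjective sq.j.left := hthick.1.2.surj
  haveI : CompactSpace ↥sq.ptT'.left := inferInstanceAs (CompactSpace (PrimeSpectrum sq.A))
  obtain ⟨s, hs⟩ := (isCompact_univ (X := ↥sq.ptT'.left)).elim_finite_subcover
    (fun t => Set.range (Spec.map (γ t)))
    (fun t => by
      have := hγ t
      exact (Spec.map (γ t)).isOpenMap.isOpen_range)
    (fun t' _ => by
      obtain ⟨t, rfl⟩ := hjs t'
      refine Set.mem_iUnion.2 ⟨t, ?_⟩
      have := hmem t
      rwa [hwt t] at this)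
  let ι : Type u := ↥s
  let Rp : ι → CommRingCat.{u} := fun i => R i.1
  let Qp : ι → CommRingCat.{u} := fun i => Q i.1
  let Cp : ι → CommRingCat.{u} := fun i => C i.1
  letI : ∀ i : ι, Algebra sq.A (Cp i) := fun i => (γ i.1).hom.toAlgebra
  letI φp : ∀ i : ι, Qp i →+* Rp i := fun i => (φ i.1).hom
  let Φ : (∀ i, Qp i) →+* ∀ i, Rp i := RingHom.pi fun i => (φp i).comp (Pi.evalRingHom _ i)
  letI : Algebra (∀ i, Qp i) (∀ i, Rp i) := Φ.toAlgebra
  -- the product charts
  have hev : ∀ i, Spec.map (ofHom (Pi.evalRingHom (fun j => (Rp j : Type u)) i)) ≫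
      Spec.map (ofHom (algebraMap (∀ i, Qp i) (∀ i, Rp i))) =
      Spec.map (φ i.1) ≫ Spec.map (ofHom (Pi.evalRingHom (fun j => (Qp j : Type u)) i)) := fun i => by
    rw [← Spec.map_comp, ← Spec.map_comp]
    rfl
  have hevR : ∀ i, Sigma.ι _ i ≫ sigmaSpec Rp =
      Spec.map (ofHom (Pi.evalRingHom (fun j => (Rp j : Type u)) i)) := ι_sigmaSpec Rp
  have hevQ : ∀ i, Sigma.ι _ i ≫ sigmaSpec Qp =
      Spec.map (ofHom (Pi.evalRingHom (fun j => (Qp j : Type u)) i)) := ι_sigmaSpec Qp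
  let σ' : Spec (CommRingCat.of (∀ i, Rp i)) ⟶ U.left :=
    inv (sigmaSpec Rp) ≫ Sigma.desc fun i => σ i.1
  let τ' : Spec (CommRingCat.of (∀ i, Qp i)) ⟶ V.left :=
    inv (sigmaSpec Qp) ≫ Sigma.desc fun i => τ i.1
  have hσ' : ∀ i, Spec.map (ofHom (Pi.evalRingHom (fun j => (Rp j : Type u)) i)) ≫ σ' = σ i.1 :=
    fun i => by
      rw [← hevR, Category.assoc, IsIso.hom_inv_id_assoc]
      exact Sigma.ι_desc (fun i => σ i.1) i
  have hτ' : ∀ i, Spec.map (ofHom (Pi.evalRingHom (fun j => (Qp j : Type u)) i)) ≫ τ' = τ i.1 :=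
    fun i => by
      rw [← hevQ, Category.assoc, IsIso.hom_inv_id_assoc]
      exact Sigma.ι_desc (fun i => τ i.1) i
  have hchart : Spec.map (ofHom (algebraMap (∀ i, Qp i) (∀ i, Rp i))) ≫ τ' = σ' ≫ h.left := by
    rw [← cancel_epi (sigmaSpec Rp)]
    refine Sigma.hom_ext _ _ fun i => ?_
    rw [reassoc_of% hevR i, reassoc_of% hevR i, reassoc_of% hev i, hτ' i, reassoc_of% hσ' i]
    exact hστ i.1
  have hσe : Etale σ' := by
    have : Etale (Sigma.desc fun i : ι => σ i.1) :=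
      IsZariskiLocalAtSource.sigmaDesc (P := @Etale) fun i => by have := hσ i.1; infer_instance
    exact MorphismProperty.comp_mem @Etale _ _ inferInstance this
  have hτe : Etale τ' := by
    have : Etale (Sigma.desc fun i : ι => τ i.1) :=
      IsZariskiLocalAtSource.sigmaDesc (P := @Etale) fun i => by have := hτ i.1; infer_instance
    exact MorphismProperty.comp_mem @Etale _ _ inferInstance this
  have hΦ : Smooth (Spec.map (ofHom (algebraMap (∀ i, Qp i) (∀ i, Rp i)))) := by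
    rw [← MorphismProperty.cancel_left_of_respectsIso @Smooth (sigmaSpec Rp)]
    refine (IsZariskiLocalAtSource.iff_of_openCover (P := @Smooth) (sigmaOpenCover _)).2 fun i => ?_
    show Smooth (Sigma.ι _ i ≫ sigmaSpec Rp ≫ _)
    rw [reassoc_of% hevR i, hev i]
    have := hφ i.1
    have : IsOpenImmersion (Spec.map (ofHom (Pi.evalRingHom (fun j => (Qp j : Type u)) i))) := by
      rw [← hevQ i]; infer_instance
    infer_instance
  have hsm : (algebraMap (∀ i, Qp i) (∀ i, Rp i)).Smooth :=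
    (HasRingHomProperty.Spec_iff (P := @Smooth)).1 hΦ
  have : Algebra.Smooth (∀ i, Qp i) (∀ i, Rp i) := RingHom.smooth_algebraMap.1 hsm
  -- the faithfully flat etale algebra
  have hCe : ∀ i : ι, Algebra.Etale sq.A (Cp i) := fun i =>
    RingHom.etale_algebraMap.1 ((HasRingHomProperty.Spec_iff (P := @Etale)).1 (hγ i.1))
  have : Algebra.Etale sq.A (∀ i, Cp i) := inferInstance
  have : Module.FaithfullyFlat sq.A (∀ i, Cp i) := by
    refine Module.FaithfullyFlat.of_comap_surjective fun P => ?_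
    obtain ⟨i, hi⟩ : ∃ i : ι, P ∈ Set.range (Spec.map (γ i.1)) := by
      obtain ⟨t, ht, hP⟩ := Set.mem_iUnion₂.1 (hs (Set.mem_univ P))
      exact ⟨⟨t, ht⟩, hP⟩
    obtain ⟨x, hx⟩ := hi
    exact ⟨PrimeSpectrum.comap (Pi.evalRingHom (fun j => (Cp j : Type u)) i) x, hx⟩
  -- the point on the reduced product
  have hbij := bijective_mapQ_pi sq.I fun i => (Cp i : Type u)
  let e := AlgEquiv.ofBijective _ hbij
  let χ' : (∀ i, Rp i) →+* (∀ i, Cp i) ⧸ ext sq.I (∀ i, Cp i) :=
    e.symm.toAlgHom.toRingHom.comp (RingHom.pi fun i => (χ i.1).hom.comp (Pi.evalRingHom _ i))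
  let str := sq.str
  have he : ∀ i, (mapQ sq.I (Pi.evalAlgHom sq.A (fun j => (Cp j : Type u)) i)).toRingHom.comp χ' =
      (χ i.1).hom.comp (Pi.evalRingHom _ i) := fun i => RingHom.ext fun r => by
    exact congrFun (e.apply_symm_apply _) i
  let cov : (Spec (CommRingCat.of ((∀ i, Cp i) ⧸ ext sq.I (∀ i, Cp i)))).OpenCover :=
    (sigmaOpenCover fun i : ι => Spec (CommRingCat.of (Cp i ⧸ ext sq.I (Cp i)))).pushforwardIso
      (sigmaSpec (fun i : ι => CommRingCat.of (Cp i ⧸ ext sq.I (Cp i))) ≫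
        Spec.map e.toRingEquiv.toCommRingCatIso.hom)
  have hcovf : ∀ i : ι, cov.f i =
      Spec.map (ofHom (mapQ sq.I (Pi.evalAlgHom sq.A (fun j => (Cp j : Type u)) i)).toRingHom) :=
    fun i => by
      show Sigma.ι _ i ≫ sigmaSpec _ ≫ _ = _
      rw [reassoc_of% ι_sigmaSpec (fun i : ι => CommRingCat.of (Cp i ⧸ ext sq.I (Cp i))) i,
        ← Spec.map_comp]
      rfl
  -- the base maps
  let v₀ : Spec (CommRingCat.of (∀ i, Qp i)) ⟶ S := τ' ≫ V.hom
  let σo : srcU (∀ i, Rp i) v₀ ⟶ U := Over.homMk σ' (by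
    show σ' ≫ U.hom = Spec.map (ofHom (algebraMap (∀ i, Qp i) (∀ i, Rp i))) ≫ τ' ≫ V.hom
    rw [reassoc_of% hchart, Over.w h])
  let τo : Over.mk v₀ ⟶ V := Over.homMk τ' rfl
  have hzs : ∀ i : ι, z i.1 ≫ (q i.1).left = Spec.map (χ i.1) ≫ σ i.1 := fun i => hzq i.1
  have hkey : ∀ i : ι, cov.f i ≫ Spec.map (ofHom χ') ≫ σ' = z i.1 ≫ (q i.1).left := fun i => by
    rw [hcovf, ← Category.assoc, ← Spec.map_comp, ← ofHom_comp, he, ofHom_comp, ofHom_hom,
      Spec.map_comp, Category.assoc, hσ' i, hzs i]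
  let x₀ : PT str ((∀ i, Cp i) ⧸ ext sq.I (∀ i, Cp i)) ⟶ srcU (∀ i, Rp i) v₀ :=
    Over.homMk (Spec.map (ofHom χ')) (by
      show Spec.map (ofHom χ') ≫ Spec.map _ ≫ τ' ≫ V.hom = Spec.map _ ≫ sq.str
      rw [reassoc_of% hchart]
      refine cov.hom_ext _ _ fun (i : ι) => ?_
      rw [reassoc_of% hkey i, Over.w h, Over.w (q i.1), ← Over.w (ha.1.snd sq.top),
        reassoc_of% hzp i.1, hcovf]
      show Spec.map _ ≫ Spec.map _ ≫ sq.str = Spec.map _ ≫ Spec.map _ ≫ sq.str
      rw [← Category.assoc, ← Category.assoc, ← Spec.map_comp, ← Spec.map_comp]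
      congr 1)
  have hx₀ : (yon S).map x₀ ≫ (yon S).map σo ≫ a =
      (yon S).map (pmap str (strQ sq.I (∀ i, Cp i))) ≫ sq.top := by
    refine AlgSpDec.hom_ext_of_openCover cov _ _ fun (i : ι) => ?_
    let P : Over S := Over.mk (cov.f i ≫ (PT str ((∀ i, Cp i) ⧸ ext sq.I (∀ i, Cp i))).hom)
    let c : P ⟶ PT str ((∀ i, Cp i) ⧸ ext sq.I (∀ i, Cp i)) := Over.homMk (cov.f i) rfl
    have hzc : z i.1 ≫ (ha.1.snd sq.top).left =
        cov.f i ≫ (pmap str (strQ sq.I (∀ i, Cp i))).left := by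
      rw [hzp, hcovf, pmap_left, ← Spec.map_comp, ← ofHom_comp,
        show (mapQ sq.I (Pi.evalAlgHom sq.A (fun j => (Cp j : Type u)) i)).toRingHom.comp
          (strQ sq.I (∀ i, Cp i)).toRingHom = (strQ sq.I (Cp i)).toRingHom from
          congrArg AlgHom.toRingHom (quot_hom_ext sq.I
            ((mapQ sq.I (Pi.evalAlgHom sq.A (fun j => (Cp j : Type u)) i)).comp
              (strQ sq.I (∀ i, Cp i))) (strQ sq.I (Cp i)))]
      congr 2
    let zo : P ⟶ ha.1.pullback sq.top := Over.homMk (z i.1) (by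
      show z i.1 ≫ (ha.1.pullback sq.top).hom = _
      rw [← Over.w (ha.1.snd sq.top), reassoc_of% hzc]
      exact congrArg (cov.f i ≫ ·) (Over.w (pmap str (strQ sq.I (∀ i, Cp i)))))
    have h1 : zo ≫ ha.1.snd sq.top = c ≫ pmap str (strQ sq.I (∀ i, Cp i)) :=
      Over.OverMorphism.ext hzc
    have h2 : zo ≫ q i.1 = c ≫ x₀ ≫ σo := Over.OverMorphism.ext (hkey i).symm
    show (yon S).map c ≫ _ = (yon S).map c ≫ _
    rw [← Functor.map_comp_assoc, ← Functor.map_comp_assoc, Category.assoc, ← h2,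
      Functor.map_comp_assoc, hq, (ha.1.isPullback sq.top).w, ← Functor.map_comp_assoc, h1,
      Functor.map_comp_assoc]
  have hwchart : ((yon S).map σo ≫ a) ≫ f =
      (yon S).map (chartH (∀ i, Rp i) v₀) ≫ (yon S).map τo ≫ b := by
    rw [Category.assoc, hw, ← Functor.map_comp_assoc, ← Functor.map_comp_assoc,
      show chartH (∀ i, Rp i) v₀ ≫ τo = σo ≫ h from Over.OverMorphism.ext hchart]
  exact exists_lift_affine sq.sq_zero (a := (yon S).map σo ≫ a) (b := (yon S).map τo ≫ b)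
    (repWith_comp ((repWith_yon_map_iff _ σo).2 hσe) ha)
    (repWith_comp ((repWith_yon_map_iff _ τo).2 hτe) hb) hwchart sq.comm x₀ hx₀

end Groth.Agent.AlgSpLib.SmLift
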