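import Groth.Agent.AlgSpLib.SmLift.Artin
import Groth.Agent.AlgSpLib.EtLocalInst

/-!
# The small-extension criteria for smoothness of morphisms of algebraic spaces
-/

set_option backward.isDefEq.respectTransparency false
set_option backward.isDefEq.respectTransparency.types false

universe u

open CategoryTheory CategoryTheory.Limits AlgebraicGeometry Opposite AlgSp CommRingCat IsLocalRing

namespace Groth.Agent.AlgSpLib.SmLift

variable {S : Scheme.{u}} {F G : Sp S}

theorem sq_ker_eq_bot {B' B : Type u} [CommRing B'] [CommRing B] [IsLocalRing B'] [Nontrivial B]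
    (π : B' →+* B) (h : ∃ t : B', RingHom.ker π = Ideal.span {t} ∧ ∀ a ∈ maximalIdeal B', a * t = 0) :
    RingHom.ker π ^ 2 = ⊥ := by
  obtain ⟨t, ht, ht0⟩ := h
  have htm : t ∈ maximalIdeal B' :=
    le_maximalIdeal (RingHom.ker_ne_top π) (ht ▸ Ideal.mem_span_singleton_self t)
  rw [ht, pow_two, Ideal.span_singleton_mul_span_singleton, ht0 t htm, Ideal.span_singleton_eq_bot]

/-- The chart around an affine pair with all closed points of an open locus. -/
theorem smooth_of_forall_maximal {U V : Scheme.{u}} (h : U ⟶ V)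
    (H : ∀ (Vi : V.Opens) (_ : IsAffineOpen Vi) (Ui : U.Opens) (hUi : IsAffineOpen Ui)
      (_ : Ui ≤ h ⁻¹ᵁ Vi) (P : PrimeSpectrum Γ(U, Ui)), P.asIdeal.IsMaximal →
      ∃ W : U.Opens, hUi.fromSpec P ∈ W ∧ Smooth (W.ι ≫ h)) : Smooth h := by
  have key : ∀ x : U, ∃ W : U.Opens, x ∈ W ∧ Smooth (W.ι ≫ h) := by
    by_contra hn
    push Not at hn
    obtain ⟨x, hx⟩ := hn
    obtain ⟨Vi, hVi, hv, -⟩ := exists_isAffineOpen_mem_and_subset (x := h x) (U := (⊤ : V.Opens)) trivial
    obtain ⟨Ui, hUi, hu, hle⟩ := exists_isAffineOpen_mem_and_subset (x := x) (U := h ⁻¹ᵁ Vi) hv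
    let Z : Set U := {z | ∀ W : U.Opens, z ∈ W → ¬ Smooth (W.ι ≫ h)}
    have hZ : IsClosed Z := by
      rw [← isOpen_compl_iff]
      refine isOpen_iff_forall_mem_open.2 fun z hz => ?_
      simp only [Z, Set.mem_compl_iff, Set.mem_ofPred_eq, not_forall, not_not] at hz
      obtain ⟨W, hzW, hW⟩ := hz
      exact ⟨W, fun y hy hy' => hy' W hy hW, W.2, hzW⟩
    obtain ⟨P, hP, hPZ⟩ := exists_maximal_point hUi Z hZ ⟨x, hx, hu⟩
    obtain ⟨W, hW, hW'⟩ := H Vi hVi Ui hUi hle P hP
    exact hPZ W hW hW'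
  choose W hW hW' using key
  refine IsZariskiLocalAtSource.of_iSup_eq_top (P := @Smooth) W ?_ hW'
  exact top_le_iff.1 fun x _ => TopologicalSpace.Opens.mem_iSup.2 ⟨x, hW x⟩

theorem locP_lft_of_left {U V : Over S} (g : U ⟶ V) {b : (yon S).obj V ⟶ G} (hb : RepWith @Etale b)
    (hg : LocallyOfFiniteType g.left) : LocP @LocallyOfFiniteType ((yon S).map g ≫ b) :=
  locP_of_chart (a := 𝟙 ((yon S).obj U)) (repWith_id _ U) (repWith_id _ U) hb
    (Category.id_comp _) hg

/-- Smoothness from lifting along small extensions of Artinian local rings with test maps locally of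
finite type. -/
theorem smooth_of_small {f : F ⟶ G} (hF : IsAlgSpace F) (hG : IsAlgSpace G) (hY : IsLocNoethSp G)
    (hft : LocP @LocallyOfFiniteType f)
    (H : ∀ (B' B : Type u) [CommRing B'] [CommRing B] [IsLocalRing B'] [IsLocalRing B]
        [IsArtinianRing B'] [IsArtinianRing B] (π : B' →+* B), Function.Surjective π →
        (∃ t : B', RingHom.ker π = Ideal.span {t} ∧ ∀ a ∈ maximalIdeal B', a * t = 0) →
        ∀ (s : Spec (CommRingCat.of B') ⟶ S)
          (α : (yon S).obj (Over.mk (Spec.map (ofHom π) ≫ s)) ⟶ F)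
          (β : (yon S).obj (Over.mk s) ⟶ G),
          LocP @LocallyOfFiniteType β →
          α ≫ f = (yon S).map (Over.homMk (Spec.map (ofHom π)) :
              Over.mk (Spec.map (ofHom π) ≫ s) ⟶ Over.mk s) ≫ β →
          ∃ γ : (yon S).obj (Over.mk s) ⟶ F,
            (yon S).map (Over.homMk (Spec.map (ofHom π)) :
              Over.mk (Spec.map (ofHom π) ≫ s) ⟶ Over.mk s) ≫ γ = α ∧ γ ≫ f = β) :
    LocP @Smooth f := by
  obtain ⟨V, b, hb, hb', hV⟩ := hY
  obtain ⟨U, a₀, h, h1, h2, h3⟩ := exists_chart_over hF hG f b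
  have ha : RepWith @Etale (a₀ ≫ pullback.fst f b) := repWith_comp h1 (repWith_fst f hb)
  have ha' : RepWith @Surjective (a₀ ≫ pullback.fst f b) := repWith_comp h2 (repWith_fst f hb')
  have w : (a₀ ≫ pullback.fst f b) ≫ f = (yon S).map h ≫ b := by
    rw [Category.assoc, pullback.condition, ← Category.assoc, h3]
  refine locP_of_chart ha ha' hb w (smooth_of_forall_maximal h.left fun Vi hVi Ui hUi hle P hP => ?_)
  have : IsLocallyNoetherian V.left := hV
  have : LocallyOfFiniteType h.left := hft _ _ h ha hb w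
  have hPU : hUi.fromSpec P ∈ Ui := by
    have : hUi.fromSpec P ∈ Set.range hUi.fromSpec := ⟨P, rfl⟩
    rwa [hUi.range_fromSpec] at this
  have : P.asIdeal.IsMaximal := hP
  refine smooth_nhd_of_lifts _ b h ha hb w (hUi.fromSpec P)
    (fun A' _ _ _ β => LocallyOfFiniteType β) ?_ ?_
  · intro A' _ _ _ h' t ht g₀ hc hres
    let vV := V.left.presheaf.germ Vi _ (hle hPU : h.left (hUi.fromSpec P) ∈ Vi)
    have hfac : Spec.map (ofHom h') ≫ V.left.fromSpecStalk (h.left (hUi.fromSpec P)) =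
        Spec.map (ofHom (h'.comp vV.hom)) ≫ hVi.fromSpec := by
      rw [← hVi.fromSpecStalk_eq_fromSpecStalk (hle hPU), IsAffineOpen.fromSpecStalk,
        ← Category.assoc, ← Spec.map_comp]
      rfl
    rw [hfac]
    have hφ : (h.left.appLE Vi Ui hle).hom.FiniteType :=
      HasRingHomProperty.appLE @LocallyOfFiniteType h.left inferInstance ⟨Vi, hVi⟩ ⟨Ui, hUi⟩ hle
    let _ : Algebra Γ(V.left, Vi) Γ(U.left, Ui) := (h.left.appLE Vi Ui hle).hom.toAlgebra
    have : Algebra.FiniteType Γ(V.left, Vi) Γ(U.left, Ui) := hφ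
    have hle2 : Ideal.span {t} ≤ maximalIdeal A' := (Ideal.span_singleton_le_iff_mem _).2 ht
    have hfactor : ∀ y ∈ (maximalIdeal A').map (Ideal.Quotient.mk (Ideal.span {t})),
        Ideal.Quotient.factor hle2 y = 0 := by
      intro y hy
      rw [Ideal.mem_map_iff_of_surjective _ Ideal.Quotient.mk_surjective] at hy
      obtain ⟨y, hy, rfl⟩ := hy
      rw [Ideal.Quotient.factor_mk]
      exact Ideal.Quotient.eq_zero_iff_mem.2 hy
    let χ := (Ideal.Quotient.factor hle2).comp g₀
    have hsurj : Function.Surjective χ := fun z => by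
      obtain ⟨z, rfl⟩ := Ideal.Quotient.mk_surjective z
      obtain ⟨c, hc'⟩ := hres z
      refine ⟨c, ?_⟩
      have := hfactor _ hc'
      rw [map_sub, Ideal.Quotient.factor_mk, sub_eq_zero] at this
      exact this
    have hker : RingHom.ker χ = maximalIdeal _ := by
      let _ := Ideal.Quotient.field (maximalIdeal A')
      exact IsLocalRing.eq_maximalIdeal
        (RingHom.ker_isMaximal_of_surjective (K := A' ⧸ maximalIdeal A') χ hsurj)
    let gU := U.left.presheaf.germ Ui _ hPU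
    have hft' : (h'.comp vV.hom).FiniteType := by
      refine finiteType_of_residue (R := Γ(U.left, Ui)) (h'.comp vV.hom)
        (((Ideal.Quotient.factor hle2).comp g₀).comp gU.hom) (fun z => ?_) (RingHom.ext fun q => ?_)
      · obtain ⟨z, rfl⟩ := Ideal.Quotient.mk_surjective z
        obtain ⟨o, ho⟩ := hres z
        obtain ⟨r, hr⟩ := residue_surjective hUi P hPU o
        refine ⟨r, ?_⟩
        have h1 := hfactor _ ho
        rw [map_sub, Ideal.Quotient.factor_mk, sub_eq_zero] at h1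
        refine Eq.trans ?_ h1
        show ((Ideal.Quotient.factor hle2).comp g₀) (gU.hom r) =
          ((Ideal.Quotient.factor hle2).comp g₀) o
        refine (sub_eq_zero.1 ?_).symm
        rw [← map_sub]
        rw [← hker] at hr
        exact hr
      · show Ideal.Quotient.factor hle2 (g₀ (gU.hom ((h.left.appLE Vi Ui hle).hom q))) =
          Ideal.Quotient.mk _ (h' (vV.hom q))
        have hst : (h.left.appLE Vi Ui hle) ≫ gU = vV ≫ h.left.stalkMap _ := by
          rw [Scheme.Hom.germ_stalkMap, Scheme.Hom.appLE, Category.assoc,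
            TopCat.Presheaf.germ_res]
        have h1 : gU.hom ((h.left.appLE Vi Ui hle).hom q) = (h.left.stalkMap _).hom (vV.hom q) :=
          congrArg (fun m : Γ(V.left, Vi) ⟶ _ => m.hom q) hst
        rw [h1, show g₀ ((h.left.stalkMap _).hom (vV.hom q)) = _ from RingHom.congr_fun hc _,
          RingHom.comp_apply, Ideal.Quotient.factor_mk]
    have : LocallyOfFiniteType (Spec.map (ofHom (h'.comp vV.hom))) :=
      HasRingHomProperty.Spec_iff.2 hft'
    infer_instance
  · intro B' B _ _ _ _ _ _ π hπ ht α β hβ hc _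
    let e : Over.mk (Spec.map (ofHom π) ≫ β ≫ V.hom) ⟶ U := Over.homMk α (by
      show α ≫ U.hom = Spec.map (ofHom π) ≫ β ≫ V.hom
      rw [reassoc_of% hc, Over.w h])
    let eb : Over.mk (β ≫ V.hom) ⟶ V := Over.homMk β rfl
    obtain ⟨γ, hγ₁, hγ₂⟩ := H B' B π hπ ht (β ≫ V.hom) ((yon S).map e ≫ a₀ ≫ pullback.fst f b)
      ((yon S).map eb ≫ b) (locP_lft_of_left eb hb hβ) (by
        rw [Category.assoc, w, ← Functor.map_comp_assoc, ← Functor.map_comp_assoc]
        exact congrArg (fun k => (yon S).map k ≫ b) (Over.OverMorphism.ext hc.symm))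
    refine ⟨γ, fun e' he' => ?_, hγ₂⟩
    rw [hγ₁, show e' = e from Over.OverMorphism.ext he']

/-- Smoothness at a point from lifting along small extensions centred at the point. -/
theorem hasAtMor_smooth_of_small {f : F ⟶ G} (hF : IsAlgSpace F) (hG : IsAlgSpace G)
    (hY : IsLocNoethSp G) (hft : LocP @LocallyOfFiniteType f) (x : Points F)
    (H : ∀ (B' B : Type u) [CommRing B'] [CommRing B] [IsLocalRing B'] [IsLocalRing B]
        [IsArtinianRing B'] [IsArtinianRing B] (π : B' →+* B), Function.Surjective π →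
        (∃ t : B', RingHom.ker π = Ideal.span {t} ∧ ∀ a ∈ maximalIdeal B', a * t = 0) →
        ∀ (s : Spec (CommRingCat.of B') ⟶ S)
          (α : (yon S).obj (Over.mk (Spec.map (ofHom π) ≫ s)) ⟶ F)
          (β : (yon S).obj (Over.mk s) ⟶ G),
          Points.ofPt α (closedPoint B) = x →
          α ≫ f = (yon S).map (Over.homMk (Spec.map (ofHom π)) :
              Over.mk (Spec.map (ofHom π) ≫ s) ⟶ Over.mk s) ≫ β →
          ∃ γ : (yon S).obj (Over.mk s) ⟶ F,
            (yon S).map (Over.homMk (Spec.map (ofHom π)) :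
              Over.mk (Spec.map (ofHom π) ≫ s) ⟶ Over.mk s) ≫ γ = α ∧ γ ≫ f = β) :
    HasAtMor (fun U _ h u => ∃ W : U.Opens, u ∈ W ∧ Smooth (W.ι ≫ h)) f x := by
  obtain ⟨V, b, hb, hb', hV⟩ := hY
  obtain ⟨U, a₀, h, h1, h2, h3⟩ := exists_chart_over hF hG f b
  have ha : RepWith @Etale (a₀ ≫ pullback.fst f b) := repWith_comp h1 (repWith_fst f hb)
  have ha' : RepWith @Surjective (a₀ ≫ pullback.fst f b) := repWith_comp h2 (repWith_fst f hb')
  have w : (a₀ ≫ pullback.fst f b) ≫ f = (yon S).map h ≫ b := by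
    rw [Category.assoc, pullback.condition, ← Category.assoc, h3]
  obtain ⟨u, hu⟩ := surjective_ofPt ha' x
  have : IsLocallyNoetherian V.left := hV
  have : LocallyOfFiniteType h.left := hft _ _ h ha hb w
  refine ⟨U, V, _, b, h, u, ha, hb, w, hu, ?_⟩
  refine smooth_nhd_of_lifts _ b h ha hb w u (fun _ _ _ _ _ => True) (fun _ _ _ _ _ _ _ _ _ _ => trivial) ?_
  intro B' B _ _ _ _ _ _ π hπ ht α β _ hc hαu
  let e : Over.mk (Spec.map (ofHom π) ≫ β ≫ V.hom) ⟶ U := Over.homMk α (by
    show α ≫ U.hom = Spec.map (ofHom π) ≫ β ≫ V.hom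
    rw [reassoc_of% hc, Over.w h])
  let eb : Over.mk (β ≫ V.hom) ⟶ V := Over.homMk β rfl
  obtain ⟨γ, hγ₁, hγ₂⟩ := H B' B π hπ ht (β ≫ V.hom) ((yon S).map e ≫ a₀ ≫ pullback.fst f b)
    ((yon S).map eb ≫ b) (by
      rw [ofPt_comp, ← hu]
      exact congrArg _ hαu) (by
      rw [Category.assoc, w, ← Functor.map_comp_assoc, ← Functor.map_comp_assoc]
      exact congrArg (fun k => (yon S).map k ≫ b) (Over.OverMorphism.ext hc.symm))
  refine ⟨γ, fun e' he' => ?_, hγ₂⟩
  rw [hγ₁, show e' = e from Over.OverMorphism.ext he']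

/-- Lifting over local rings centred at a point of smoothness. -/
theorem exists_lift_of_hasAtMor {f : F ⟶ G} {x : Points F}
    (hx : HasAtMor (fun U _ h u => ∃ W : U.Opens, u ∈ W ∧ Smooth (W.ι ≫ h)) f x)
    {B' B : Type u} [CommRing B'] [CommRing B] [IsLocalRing B] (π : B' →+* B)
    (hπ : Function.Surjective π) (hsq : RingHom.ker π ^ 2 = ⊥) (s : Spec (CommRingCat.of B') ⟶ S)
    (α : (yon S).obj (Over.mk (Spec.map (ofHom π) ≫ s)) ⟶ F) (β : (yon S).obj (Over.mk s) ⟶ G)
    (hα : Points.ofPt α (closedPoint B) = x)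
    (w : α ≫ f = (yon S).map (Over.homMk (Spec.map (ofHom π)) :
      Over.mk (Spec.map (ofHom π) ≫ s) ⟶ Over.mk s) ≫ β) :
    ∃ γ : (yon S).obj (Over.mk s) ⟶ F,
      (yon S).map (Over.homMk (Spec.map (ofHom π)) :
        Over.mk (Spec.map (ofHom π) ≫ s) ⟶ Over.mk s) ≫ γ = α ∧ γ ≫ f = β := by
  obtain ⟨U, V, a, b, h, u, ha, hb, hw, hu, W, huW, hW⟩ := hx
  let U' : Over S := Over.mk (W.ι ≫ U.hom)
  let ι' : U' ⟶ U := Over.homMk W.ι rfl
  have hι' : RepWith @Etale ((yon S).map ι') :=
    (repWith_yon_map_iff _ ι').2 (inferInstanceAs (Etale W.ι))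
  have ha' : RepWith @Etale ((yon S).map ι' ≫ a) := repWith_comp hι' ha
  have hO : IsOpen (Set.range (Points.ofPt ((yon S).map ι' ≫ a))) := by
    rw [← Set.image_univ]
    exact isOpenMap_ofPt ha' _ isOpen_univ
  have hall : ∀ t, ∃ v, Points.ofPt ((yon S).map ι' ≫ a) v = Points.ofPt α t := by
    intro t
    have hopen := Points.isOpen_iff.1 hO _ α
    have hc : closedPoint B ∈ Points.ofPt α ⁻¹' Set.range (Points.ofPt ((yon S).map ι' ≫ a)) := by
      refine ⟨⟨u, huW⟩, ?_⟩
      rw [ofPt_comp, hα]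
      exact hu
    exact (specializes_closedPoint t).mem_open hopen hc
  refine exists_of_surjective π hπ hsq s α β w fun sq hsq' => ?_
  refine hasLift_of_points sq ((yon S).map ι' ≫ a) b (ι' ≫ h) ha' hb (by
    rw [Category.assoc, hw, ← Functor.map_comp_assoc]) hW fun t => ?_
  obtain ⟨t', ht'⟩ := hsq' t
  obtain ⟨v, hv⟩ := hall t'
  exact ⟨v, hv.trans ht'⟩

end Groth.Agent.AlgSpLib.SmLift
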